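import Mathlib

/-!
The cyclic piece generated by a vector killed by an irreducible polynomial in an operator.
-/

set_option autoImplicit false

namespace Cfsg.Agent.Lib.OddSpectrum

open Polynomial

variable {F : Type*} [Field F] {V : Type*} [AddCommGroup V] [Module F V] (Y : Module.End F V)
  {f : F[X]} (hf : f.Monic) (w₀ : V)

/-- `c ↦ c(Y) w₀`. -/
noncomputable def cyc : AdjoinRoot f →ₗ[F] V :=
  (LinearMap.applyₗ w₀) ∘ₗ (aeval Y).toLinearMap ∘ₗ AdjoinRoot.modByMonicHom hf

variable {Y w₀} (hw : aeval Y f w₀ = 0)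
include hw

theorem cyc_mk (P : F[X]) : cyc Y hf w₀ (AdjoinRoot.mk f P) = aeval Y P w₀ := by
  show aeval Y (AdjoinRoot.modByMonicHom hf (AdjoinRoot.mk f P)) w₀ = _
  rw [AdjoinRoot.modByMonicHom_mk, modByMonic_eq_sub_mul_div, map_sub, mul_comm f, map_mul,
    LinearMap.sub_apply, Module.End.mul_apply, hw, map_zero, sub_zero]

theorem cyc_mk_mul (P : F[X]) (c : AdjoinRoot f) :
    cyc Y hf w₀ (AdjoinRoot.mk f P * c) = aeval Y P (cyc Y hf w₀ c) := by
  obtain ⟨C', rfl⟩ := AdjoinRoot.mk_surjective c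
  rw [← map_mul, cyc_mk hf hw, cyc_mk hf hw, map_mul, Module.End.mul_apply]

theorem cyc_one : cyc Y hf w₀ 1 = w₀ := by
  rw [← map_one (AdjoinRoot.mk f), cyc_mk hf hw, map_one, Module.End.one_apply]

theorem cyc_injective [Fact (Irreducible f)] (h0 : w₀ ≠ 0) : Function.Injective (cyc Y hf w₀) := by
  rw [injective_iff_map_eq_zero]
  intro c hc
  by_contra hne
  obtain ⟨P, hP⟩ := AdjoinRoot.mk_surjective (c⁻¹)
  apply h0
  have h := cyc_mk_mul hf hw P c
  rw [hP, inv_mul_cancel₀ hne, cyc_one hf hw, hc, map_zero] at h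
  exact h

theorem cyc_mem {W : Submodule F V} (hY : ∀ v ∈ W, Y v ∈ W) (h0 : w₀ ∈ W) (c : AdjoinRoot f) :
    cyc Y hf w₀ c ∈ W := by
  obtain ⟨P, rfl⟩ := AdjoinRoot.mk_surjective c
  rw [cyc_mk hf hw]
  induction P using Polynomial.induction_on' with
  | add a b ha hb => rw [map_add, LinearMap.add_apply]; exact W.add_mem ha hb
  | monomial k a =>
    rw [aeval_monomial, Module.End.mul_apply, Module.algebraMap_end_apply]
    refine W.smul_mem a ?_
    induction k with
    | zero => rwa [pow_zero, Module.End.one_apply]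
    | succ k ih => rw [pow_succ', Module.End.mul_apply]; exact hY _ ih

end Cfsg.Agent.Lib.OddSpectrum
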