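import Mathlib

/-!
Signs of permutations whose non-trivial cycles all have the same even length; level sets of a functional
composed with the relative norm of a quadratic extension of finite fields.
-/

set_option autoImplicit false

namespace Cfsg.Agent.Lib.OddSpectrum

/-- All non-trivial cycles have length `N`. -/
theorem sign_of_uniform {α : Type*} [Fintype α] [DecidableEq α] (σ : Equiv.Perm α) {N j : ℕ} (hN : 0 < N)
    (hev : Even N) (h1 : σ ^ N = 1) (hper : ∀ x, σ x ≠ x → ∀ i : ℕ, (σ ^ i) x = x → N ∣ i)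
    (hj : Fintype.card {x // σ x ≠ x} = N * j) : Equiv.Perm.sign σ = (-1) ^ j := by
  have hcyc : σ.cycleType = Multiset.replicate σ.cycleType.card N := by
    refine Multiset.eq_replicate_card.2 fun k hk => ?_
    rw [Equiv.Perm.cycleType_def, Multiset.mem_map] at hk
    obtain ⟨c, hc, rfl⟩ := hk
    obtain ⟨hcyc, hcs⟩ := Equiv.Perm.mem_cycleFactorsFinset_iff.1 hc
    obtain ⟨x, hx⟩ := hcyc.nonempty_support
    have hσc : ∀ i : ℕ, (σ ^ i) x = (c ^ i) x := fun i => by
      induction i with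
      | zero => rfl
      | succ i ih =>
        rw [pow_succ', pow_succ', Equiv.Perm.mul_apply, Equiv.Perm.mul_apply, ih]
        exact (hcs _ ((Equiv.Perm.pow_apply_mem_support).2 hx)).symm
    have hσx : σ x ≠ x := by
      have := hcs x hx
      rw [← this]
      exact Equiv.Perm.mem_support.1 hx
    show c.support.card = N
    rw [← hcyc.orderOf]
    refine Nat.dvd_antisymm (orderOf_dvd_of_pow_eq_one ((hcyc.pow_eq_one_iff).2 ⟨x, Equiv.Perm.mem_support.1 hx, ?_⟩))
      (hper x hσx _ ?_)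
    · rw [← hσc, h1]; rfl
    · rw [hσc, pow_orderOf_eq_one]; rfl
  rw [Equiv.Perm.sign_of_cycleType_eq_replicate hN hcyc, if_neg (Nat.not_odd_iff_even.2 hev)]
  congr 1
  have h2 : Fintype.card α - Fintype.card (Function.fixedPoints σ) = N * j := by
    rw [← hj, Fintype.card_subtype_compl]
    exact congrArg _ (Fintype.card_congr (Equiv.subtypeEquivRight fun x => Iff.rfl))
  rw [h2, Nat.mul_div_cancel_left _ hN]

variable {F : Type*} [Field F] [Fintype F] {L : Type*} [Field L] [Fintype L] [Algebra F L]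

open Classical in
theorem level_card {q m : ℕ} (hF : Fintype.card F = q) (hodd : Odd q) (hm : 2 ≤ m)
    (hdim : Module.finrank F L = 2 * m) (ℓ : L →ₗ[F] F) (hℓ : ∃ k : L, k ^ q ^ m = k ∧ ℓ k ≠ 0) (c : F) :
    ∃ j, Nat.card {z : L // z ≠ 0 ∧ ℓ (z ^ (q ^ m + 1)) = c} = (q ^ m + 1) * j ∧ (Odd j ↔ c ≠ 0) := by
  have hq : 2 ≤ q := hF ▸ Fintype.one_lt_card
  have hL : Nat.card L = q ^ (2 * m) := by
    rw [Nat.card_eq_fintype_card, Module.card_eq_pow_finrank (K := F), hF, hdim]
  have hL1 : Nat.card Lˣ = (q ^ m + 1) * (q ^ m - 1) := by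
    rw [Nat.card_units, hL, mul_comm 2 m, pow_mul, ← Nat.sq_sub_sq, one_pow]
  let Fr : L →ₐ[F] L := FiniteField.frobeniusAlgHom F L ^ m
  have hFr : ∀ x, Fr x = x ^ q ^ m := fun x => by
    have : ∀ i : ℕ, (FiniteField.frobeniusAlgHom F L ^ i) x = x ^ q ^ i := fun i => by
      induction i with
      | zero => simp
      | succ i ih => rw [pow_succ', AlgHom.mul_apply, ih, FiniteField.frobeniusAlgHom_apply, hF, ← pow_mul, ← pow_succ]
    exact this m
  let K : Submodule F L := LinearMap.ker (Fr.toLinearMap - LinearMap.id)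
  have hK : ∀ x, x ∈ K ↔ x ^ q ^ m = x := fun x => by simp [K, sub_eq_zero, hFr]
  let h : Lˣ →* Lˣ := powMonoidHom (q ^ m + 1)
  have hker : Nat.card h.ker = q ^ m + 1 := by
    rw [IsCyclic.card_powMonoidHom_ker, hL1, Nat.gcd_mul_right_left]
  have hrange : Nat.card h.range = q ^ m - 1 := by
    have h1 := h.ker.card_mul_index
    rw [Subgroup.index_ker, hker, hL1] at h1
    exact Nat.eq_of_mul_eq_mul_left (Nat.succ_pos _) h1
  have hNK : ∀ z : L, z ^ (q ^ m + 1) ∈ K := fun z => by
    rw [hK, ← pow_mul]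
    rcases eq_or_ne z 0 with rfl | hz
    · rw [zero_pow (by positivity), zero_pow (Nat.succ_ne_zero _)]
    · have h1 : z ^ (q ^ (2 * m) - 1) = 1 := by
        have := FiniteField.pow_card_sub_one_eq_one z hz
        rwa [← Nat.card_eq_fintype_card, hL] at this
      have h2 : (q ^ m + 1) * q ^ m = q ^ (2 * m) - 1 + (q ^ m + 1) := by
        have : 1 ≤ q ^ (2 * m) := Nat.one_le_pow _ _ (by omega)
        rw [two_mul, pow_add] at this ⊢
        rw [add_mul, one_mul]
        omega
      rw [h2, pow_add, h1, one_mul]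
  let g : ↥h.range → {x : K // x ≠ 0} := fun u => ⟨⟨((u : Lˣ) : L), by
      obtain ⟨v, hv⟩ := u.2
      rw [← hv]; simpa [h] using hNK v⟩, fun hh => (u : Lˣ).ne_zero (congrArg Subtype.val hh)⟩
  have hginj : Function.Injective g := fun u v huv =>
    Subtype.ext (Units.ext (congrArg (fun x => ((x : {x : K // x ≠ 0}).1 : L)) huv))
  have hKle : Nat.card K ≤ q ^ m := by
    let P : Polynomial L := Polynomial.X ^ q ^ m - Polynomial.X
    have hq1 : 1 < q ^ m := Nat.one_lt_pow (by omega) (by omega)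
    have hsub : (K : Set L) ⊆ ↑P.roots.toFinset := fun x hx => by
      rw [Finset.mem_coe, Multiset.mem_toFinset, Polynomial.mem_roots (FiniteField.X_pow_card_sub_X_ne_zero L hq1)]
      simp [P, (hK x).1 hx]
    calc Nat.card K = Nat.card (K : Set L) := rfl
      _ ≤ Nat.card (P.roots.toFinset : Set L) := Nat.card_mono (Finset.finite_toSet _) hsub
      _ ≤ q ^ m := by
        rw [Nat.card_coe_set_eq, Set.ncard_coe_finset]
        exact (Multiset.toFinset_card_le _).trans ((Polynomial.card_roots' _).trans_eq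
          (FiniteField.X_pow_card_sub_X_natDegree_eq L hq1))
  have hK0 : Nat.card {x : K // x ≠ 0} = Nat.card K - 1 := by
    rw [Nat.card_eq_fintype_card, Nat.card_eq_fintype_card, Fintype.card_subtype_compl, Fintype.card_subtype_eq]
  have hKc : Nat.card K = q ^ m := by
    have := Nat.card_le_card_of_injective g hginj
    have h2 : 1 ≤ Nat.card K := Nat.card_pos
    omega
  have hgsurj : Function.Surjective g :=
    ((Nat.bijective_iff_injective_and_card g).2 ⟨hginj, by rw [hrange, hK0, hKc]⟩).2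
  have hsurj : ∀ x : L, x ∈ K → x ≠ 0 → ∃ v : Lˣ, (v : L) ^ (q ^ m + 1) = x := fun x hx hx0 => by
    obtain ⟨u, hu⟩ := hgsurj ⟨⟨x, hx⟩, fun hh => hx0 (congrArg Subtype.val hh)⟩
    obtain ⟨v, hv⟩ := u.2
    refine ⟨v, ?_⟩
    have h1 : ((u : Lˣ) : L) = x := congrArg (fun y => ((y : {x : K // x ≠ 0}).1 : L)) hu
    rw [← h1, ← hv]
    simp [h]
  -- fibres of the norm
  let T := {x : K // x ≠ 0 ∧ ℓ (x : L) = c}
  have hfib : Nat.card {z : L // z ≠ 0 ∧ ℓ (z ^ (q ^ m + 1)) = c} = (q ^ m + 1) * Nat.card T := by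
    let π : {z : L // z ≠ 0 ∧ ℓ (z ^ (q ^ m + 1)) = c} → T := fun z =>
      ⟨⟨z.1 ^ (q ^ m + 1), hNK _⟩, fun hh => z.2.1 ((pow_eq_zero_iff (Nat.succ_ne_zero _)).1 (congrArg Subtype.val hh)), z.2.2⟩
    rw [← Nat.card_congr (Equiv.sigmaFiberEquiv π), Nat.card_sigma, Nat.card_eq_fintype_card (α := T),
      mul_comm, ← Finset.card_univ, ← smul_eq_mul, ← Finset.sum_const]
    refine Finset.sum_congr rfl fun t _ => ?_
    obtain ⟨v, hv⟩ := hsurj t.1.1 t.1.2 (fun hh => t.2.1 (Subtype.ext hh))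
    have hkmem : ∀ w : ↥h.ker, ((w : Lˣ) : L) ^ (q ^ m + 1) = 1 := fun w => by
      have h' := congrArg Units.val (MonoidHom.mem_ker.1 w.2)
      simp only [h, powMonoidHom_apply, Units.val_pow_eq_pow_val, Units.val_one] at h'
      exact h'
    have hv0 : ∀ w : ↥h.ker, (((w : Lˣ) * v : Lˣ) : L) ^ (q ^ m + 1) = t.1.1 := fun w => by
      rw [Units.val_mul, mul_pow, hkmem w, one_mul, hv]
    have hz : ∀ z : {z // π z = t}, z.1.1 ^ (q ^ m + 1) = t.1.1 := fun z => congrArg (fun y : T => (y.1 : L)) z.2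
    have hw : ∀ z : {z // π z = t}, Units.mk0 z.1.1 z.1.2.1 * v⁻¹ ∈ h.ker := fun z => by
      refine MonoidHom.mem_ker.2 (Units.ext ?_)
      simp only [h, powMonoidHom_apply, Units.val_pow_eq_pow_val, Units.val_one, Units.val_mul, Units.val_mk0, mul_pow,
        hz z]
      rw [Units.val_inv_eq_inv_val, inv_pow, hv]
      exact mul_inv_cancel₀ (fun hh => t.2.1 (Subtype.ext hh))
    let e : {z // π z = t} ≃ ↥h.ker :=
      { toFun := fun z => ⟨Units.mk0 z.1.1 z.1.2.1 * v⁻¹, hw z⟩
        invFun := fun w => ⟨⟨(((w : Lˣ) * v : Lˣ) : L), Units.ne_zero _, by rw [hv0 w]; exact t.2.2⟩,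
          Subtype.ext (Subtype.ext (hv0 w))⟩
        left_inv := fun z => Subtype.ext (Subtype.ext (by simp [mul_assoc]))
        right_inv := fun w => Subtype.ext (Units.ext (by simp [mul_assoc])) }
    rw [Nat.card_congr e, hker]
  refine ⟨Nat.card T, hfib, ?_⟩
  let ℓK : K →ₗ[F] F := ℓ.comp K.subtype
  have hne : ℓK ≠ 0 := by
    obtain ⟨k, hk, hk0⟩ := hℓ
    exact fun hh => hk0 (LinearMap.congr_fun hh ⟨k, (hK k).2 hk⟩)
  have hs : Function.Surjective ℓK := LinearMap.surjective_iff_ne_zero.2 hne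
  have hfibre : Nat.card {x : K // ℓK x = c} * q = q ^ m := by
    obtain ⟨x0, hx0⟩ := hs c
    have e : Nat.card {x : K // ℓK x = c} = Nat.card ℓK.toAddMonoidHom.ker := Nat.card_congr
      { toFun := fun x => ⟨x.1 - x0, by show ℓK (x.1 - x0) = 0; rw [map_sub, x.2, hx0, sub_self]⟩
        invFun := fun x => ⟨x.1 + x0, by
          have h' : ℓK x.1 = 0 := x.2
          show ℓK (x.1 + x0) = c
          rw [map_add, h', hx0, zero_add]⟩
        left_inv := fun x => by simp
        right_inv := fun x => by simp }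
    have h1 := ℓK.toAddMonoidHom.ker.card_mul_index
    rw [AddSubgroup.index_ker, hKc] at h1
    have h2 : Nat.card ℓK.toAddMonoidHom.range = q := by
      rw [AddMonoidHom.range_eq_top.2 hs, AddSubgroup.card_top, Nat.card_eq_fintype_card, hF]
    rw [h2] at h1
    rw [e, h1]
  have hfodd : Odd (Nat.card {x : K // ℓK x = c}) := by
    have : Odd (Nat.card {x : K // ℓK x = c} * q) := hfibre ▸ hodd.pow
    exact (Nat.odd_mul.1 this).1
  by_cases hc : c = 0
  · subst hc
    refine iff_of_false ?_ (fun hh => hh rfl)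
    rw [Nat.not_odd_iff_even]
    have e : Nat.card T + 1 = Nat.card {x : K // ℓK x = (0 : F)} := by
      rw [← Finite.card_option]
      refine Nat.card_congr
        { toFun := fun o => o.elim ⟨0, map_zero _⟩ (fun x => ⟨x.1, x.2.2⟩)
          invFun := fun x => if hx : x.1 = 0 then none else some ⟨x.1, hx, x.2⟩
          left_inv := ?_
          right_inv := ?_ }
      · rintro (_ | x)
        · exact dif_pos rfl
        · exact dif_neg x.2.1
      · intro x
        by_cases hx : x.1 = 0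
        · simp only [dif_pos hx, Option.elim_none]; exact Subtype.ext hx.symm
        · simp only [dif_neg hx, Option.elim_some]
    rw [← e, Nat.odd_add_one] at hfodd
    exact Nat.not_odd_iff_even.1 hfodd
  · refine iff_of_true ?_ hc
    have e : Nat.card T = Nat.card {x : K // ℓK x = c} :=
      Nat.card_congr (Equiv.subtypeEquivRight fun x => ⟨fun h => h.2, fun h =>
        ⟨fun hh => hc (by rw [← h, hh, map_zero]), h⟩⟩)
    rwa [e]

end Cfsg.Agent.Lib.OddSpectrum
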