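import Mathlib

/-!
In dimension three, an isometry commuting with a non-trivial unipotent one and of order prime to the
characteristic is `±1`.
-/

set_option autoImplicit false

namespace Cfsg.Agent.Lib.OddSpectrum

open Module

variable {F : Type*} [Field F] {p : ℕ} [Fact p.Prime] [CharP F p]
variable {T : Type*} [AddCommGroup T] [Module F T]

theorem eq_one_or_neg_one_of_commute [FiniteDimensional F T] (h2 : (2 : F) ≠ 0) (hT : finrank F T = 3)
    (B : LinearMap.BilinForm F T) (hB : B.Nondegenerate) (hsym : ∀ x y, B x y = B y x)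
    (S U : Module.End F T) (hS : ∀ x y, B (S x) (S y) = B x y) (hU : ∀ x y, B (U x) (U y) = B x y)
    (hc : Commute S U) (hU1 : U ≠ 1) (hUp : U ^ p = 1) {N : ℕ} (hN : (N : F) ≠ 0) (hSN : S ^ N = 1) :
    S = 1 ∨ S = -1 := by
  haveI : Nontrivial T := Module.nontrivial_of_finrank_pos (R := F) (by omega)
  haveI : CharP (Module.End F T) p :=
    charP_of_injective_algebraMap (algebraMap F (Module.End F T)).injective p
  set n := U - 1 with hn
  have hcn : Commute S n := hc.sub_right (Commute.one_right _)
  have hnp : n ^ p = 0 := by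
    rw [hn, sub_pow_char_of_commute p (Commute.one_right _), one_pow, hUp, sub_self]
  have hn3 : ∀ x, n (n (n x)) = 0 := fun x => by
    have h := Module.End.ker_pow_le_ker_pow_finrank n p (show x ∈ LinearMap.ker (n ^ p) by simp [hnp])
    rw [hT] at h
    simpa [pow_succ, Module.End.mul_apply] using h
  have hU' : ∀ x, U x = x + n x := fun x => by simp [hn]
  have hskew : ∀ x y, B (n x) y + B x (n y) + B (n x) (n y) = 0 := fun x y => by
    have h := hU x y
    simp only [hU', map_add, LinearMap.add_apply] at h
    linear_combination h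
  -- the square does not vanish
  obtain ⟨x0, hx0⟩ : ∃ x, n (n x) ≠ 0 := by
    by_contra hcon
    push Not at hcon
    have hiso : ∀ x y, B (n x) (n y) = 0 := fun x y => by
      have h := hskew x (n y)
      simpa [hcon] using h
    have hsk : ∀ x, B (n x) x = 0 := fun x => by
      have h := hskew x x
      rw [hiso, hsym x (n x)] at h
      exact (mul_eq_zero.1 (by linear_combination h : (2 : F) * B (n x) x = 0)).resolve_left h2
    obtain ⟨x1, hx1⟩ : ∃ x, n x ≠ 0 := by
      by_contra hne
      push Not at hne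
      exact hU1 (LinearMap.ext fun x => by rw [hU', hne]; simp)
    have hle : LinearMap.range n ≤ B.orthogonal (LinearMap.range n) := by
      rintro _ ⟨x, rfl⟩ _ ⟨y, rfl⟩
      exact hiso y x
    have hdim : finrank F (LinearMap.range n) ≤ 1 := by
      have h1 := Submodule.finrank_mono hle
      rw [LinearMap.BilinForm.finrank_orthogonal hB, hT] at h1
      have := (LinearMap.range n).finrank_le
      omega
    have hspan : ∀ x, ∃ d : F, n x = d • n x1 := fun x => by
      have hone : finrank F (LinearMap.range n) = 1 := le_antisymm hdim (Submodule.one_le_finrank_iff.2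
        (fun h => hx1 ((Submodule.eq_bot_iff _).1 h _ ⟨x1, rfl⟩)))
      obtain ⟨d, hd⟩ := (finrank_eq_one_iff_of_nonzero' (⟨n x1, ⟨x1, rfl⟩⟩ : LinearMap.range n)
        (fun h => hx1 (congrArg Subtype.val h))).1 hone ⟨n x, ⟨x, rfl⟩⟩
      exact ⟨d, (congrArg Subtype.val hd).symm⟩
    obtain ⟨x2, hx2⟩ : ∃ y, B (n x1) y ≠ 0 := by
      by_contra hne
      push Not at hne
      exact hx1 (hB.1 _ hne)
    obtain ⟨d, hd⟩ := hspan x2
    have h1 := hsk x2
    rw [hd, map_smul, LinearMap.smul_apply, smul_eq_mul, mul_eq_zero] at h1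
    have hd0 : d = 0 := h1.resolve_right hx2
    have h3 := hsk (x1 + x2)
    rw [map_add n, hd, hd0, zero_smul, add_zero, map_add, hsk, zero_add] at h3
    exact hx2 h3
  set e1 := n x0 with he1
  set e2 := n e1 with he2
  have hne2 : n e2 = 0 := hn3 x0
  have hli : LinearIndependent F ![x0, e1, e2] := by
    rw [Fintype.linearIndependent_iff]
    intro g hg
    simp [Fin.sum_univ_three] at hg
    have h1 := congrArg n (congrArg n hg)
    simp [← he1, ← he2, hne2] at h1
    have g0 : g 0 = 0 := h1.resolve_right hx0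
    rw [g0, zero_smul, zero_add] at hg
    have h3 := congrArg n hg
    simp [← he2, hne2] at h3
    have g1 : g 1 = 0 := h3.resolve_right hx0
    rw [g1, zero_smul, zero_add] at hg
    have g2 : g 2 = 0 := (smul_eq_zero.1 hg).resolve_right hx0
    intro i; fin_cases i <;> assumption
  let b := basisOfLinearIndependentOfCardEqFinrank hli (by simp [hT])
  have hb : ⇑b = ![x0, e1, e2] := coe_basisOfLinearIndependentOfCardEqFinrank hli _
  obtain ⟨a, β, γ, hSx⟩ : ∃ a β γ : F, S x0 = a • x0 + β • e1 + γ • e2 :=
    ⟨b.repr (S x0) 0, b.repr (S x0) 1, b.repr (S x0) 2, by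
      conv_lhs => rw [← b.sum_repr (S x0)]
      simp [Fin.sum_univ_three, hb]⟩
  have hcap : ∀ x, S (n x) = n (S x) := fun x => LinearMap.congr_fun hcn.eq x
  have hSe1 : S e1 = a • e1 + β • e2 := by
    rw [he1, hcap, hSx]; simp [← he1, ← he2, hne2]
  have hSe2 : S e2 = a • e2 := by
    rw [he2, hcap, hSe1]; simp [← he2, hne2]
  have hpow2 : ∀ j : ℕ, (S ^ j) e2 = a ^ j • e2 := fun j => by
    induction j with
    | zero => simp
    | succ j ih => rw [pow_succ', Module.End.mul_apply, ih, map_smul, hSe2, smul_smul, pow_succ]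
  have haN : a ^ N = 1 := by
    have h := hpow2 N
    rw [hSN, Module.End.one_apply] at h
    exact (smul_left_injective F hx0 ((one_smul F e2).trans h)).symm
  have ha : a ≠ 0 := fun h => by
    rw [h, zero_pow (fun h0 => hN (by rw [h0, Nat.cast_zero]))] at haN
    exact zero_ne_one haN
  have key : ∀ (y : T) (δ : F), S y = a • y + δ • e2 → δ = 0 := fun y δ hy => by
    have hp : ∀ j : ℕ, (S ^ j) y = a ^ j • y + ((j : F) * δ * a ^ j * a⁻¹) • e2 := fun j => by
      induction j with
      | zero => simp
      | succ j ih =>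
        rw [pow_succ', Module.End.mul_apply, ih, map_add, map_smul, map_smul, hy, hSe2]
        simp only [smul_add, smul_smul, add_assoc, ← add_smul]
        congr 2 <;> (push_cast; field_simp; ring)
    have h := hp N
    rw [hSN, Module.End.one_apply, haN, one_smul, mul_one, left_eq_add, smul_eq_zero] at h
    have h4 := h.resolve_right hx0
    simpa [hN, ha] using h4
  have hβ : β = 0 := key e1 β hSe1
  have hγ : γ = 0 := key x0 γ (by rw [hSx, hβ, zero_smul, add_zero])
  have hSa : ∀ x, S x = a • x := fun x => by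
    have : S = a • (1 : Module.End F T) := b.ext fun i => by
      fin_cases i <;> simp [hb, hSx, hSe1, hSe2, hβ, hγ]
    rw [this]; simp
  obtain ⟨y, z, hyz⟩ : ∃ y z, B y z ≠ 0 := by
    by_contra hne
    push Not at hne
    exact hx0 (hB.1 _ fun z => hne _ z)
  have h := hS y z
  rw [hSa, hSa, map_smul, map_smul, LinearMap.smul_apply, smul_eq_mul, smul_eq_mul, ← mul_assoc] at h
  rcases mul_self_eq_one_iff.1 ((mul_eq_right₀ hyz).1 h) with h1 | h1
  · exact Or.inl (LinearMap.ext fun x => by rw [hSa, h1]; simp)
  · exact Or.inr (LinearMap.ext fun x => by rw [hSa, h1]; simp)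

end Cfsg.Agent.Lib.OddSpectrum
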