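import Mathlib
import Cfsg.Agent.Lib.Orth.Omega
import Cfsg.Agent.Lib.PrimeGraphLinear.Basic
import Cfsg.Agent.Lib.OddSpectrum.Sign
import Cfsg.Agent.Lib.OddSpectrum.Three
import Cfsg.Agent.Lib.OddSpectrum.Piece

/-!
`Ω_{2m+3}(q)`, `q` odd, has no element of order `p (q^m + 1)`.
-/

set_option autoImplicit false
set_option maxHeartbeats 1600000

namespace Cfsg.Agent.Lib.OddSpectrum

open Polynomial QuadraticMap Module

variable {ι : Type} [Fintype ι] [DecidableEq ι] {F : Type*} [Field F] [Fintype F]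
  {Q : QuadraticForm F (ι → F)}

theorem toLin_apply (g : ↥(isometryGroup F ⇑Q)) (v : ι → F) :
    Matrix.toLinAlgEquiv' ((g : Matrix.GeneralLinearGroup ι F) : Matrix ι ι F) v = Orth.app g v := rfl

theorem frob_pow_apply {L : Type*} [Field L] [Algebra F L] {q : ℕ} (hF : Fintype.card F = q) (x : L) :
    ∀ i : ℕ, (FiniteField.frobeniusAlgHom F L ^ i) x = x ^ q ^ i
  | 0 => by simp
  | i + 1 => by
    rw [pow_succ', AlgHom.mul_apply, frob_pow_apply hF x i, FiniteField.frobeniusAlgHom_apply, hF,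
      ← pow_mul, ← pow_succ]

theorem not_orderOf_omega {p : ℕ} [Fact p.Prime] [CharP F p] (hp2 : p ≠ 2) {q : ℕ}
    (hF : Fintype.card F = q) (hQ : (QuadraticMap.polarBilin Q).Nondegenerate) {m : ℕ} (hm : 2 ≤ m)
    (hι : Fintype.card ι = 2 * m + 3) {r : ℕ} [Fact r.Prime] (hr : orderOf (q : ZMod r) = 2 * m)
    (g : ↥(isometryGroup F ⇑Q)) (hg : g ∈ Omega F ⇑Q) : orderOf g ≠ p * (q ^ m + 1) := by
  classical
  intro hord
  have hq : 2 ≤ q := hF ▸ Fintype.one_lt_card
  have h2 : (2 : F) ≠ 0 := fun h => hp2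
    ((Nat.prime_dvd_prime_iff_eq Fact.out Nat.prime_two).1 ((CharP.cast_eq_zero_iff F p 2).1 (by simpa using h)))
  have hodd : Odd q := by
    obtain ⟨a, -, ha⟩ := FiniteField.card F p
    rw [← hF, ha]
    exact ((Fact.out : p.Prime).odd_of_ne_two hp2).pow
  set N := q ^ m + 1 with hN
  have hrN : r ∣ N := by
    rw [hN, ← ZMod.natCast_eq_zero_iff]
    push_cast
    rcases mul_self_eq_one_iff.1 (show ((q : ZMod r) ^ m) * (q : ZMod r) ^ m = 1 by
      rw [← pow_add, ← two_mul, ← hr, pow_orderOf_eq_one]) with h | h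
    · have := Nat.le_of_dvd (by omega) (orderOf_dvd_of_pow_eq_one h)
      omega
    · rw [h, neg_add_cancel]
  have hNF : (N : F) ≠ 0 := by
    obtain ⟨a, -, ha⟩ := FiniteField.card F p
    rw [hN, Nat.cast_add, Nat.cast_pow, ← hF, Nat.cast_card_eq_zero, zero_pow (by omega), zero_add, Nat.cast_one]
    exact one_ne_zero
  have hrF : (r : F) ≠ 0 := fun h => hNF (by
    obtain ⟨c, hc⟩ := hrN
    rw [hc, Nat.cast_mul, h, zero_mul])
  obtain ⟨k, hk⟩ := id hrN
  -- semisimple and unipotent parts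
  set s := g ^ p with hs
  set u := g ^ N with hu
  have hso : orderOf s = N := by
    rw [hs, orderOf_pow_of_dvd (Fact.out : p.Prime).ne_zero (hord ▸ dvd_mul_right p N), hord,
      Nat.mul_div_cancel_left _ (Fact.out : p.Prime).pos]
  have huo : orderOf u = p := by
    rw [hu, orderOf_pow_of_dvd (Nat.succ_ne_zero _) (hord ▸ dvd_mul_left N p), hord,
      Nat.mul_div_cancel _ (Nat.succ_pos _)]
  obtain ⟨hdg, hsg⟩ := (Orth.mem_omega_iff h2 hQ (by omega) g).1 hg
  have hds : Orth.detSign Q h2 hQ s = 1 := by rw [hs, map_pow, hdg, one_pow]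
  have hss : Orth.spinor Q s = 1 := by rw [hs, map_pow, hsg, one_pow]
  let toE : ↥(isometryGroup F ⇑Q) →* Module.End F (ι → F) :=
    (Matrix.toLinAlgEquiv' (R := F) (n := ι)).toMonoidHom.comp
      ((Units.coeHom (Matrix ι ι F)).comp (isometryGroup F ⇑Q).subtype)
  have toE_inj : ∀ x y, toE x = toE y → x = y := fun x y h =>
    Orth.isometry_ext fun v => LinearMap.congr_fun h v
  let B : LinearMap.BilinForm F (ι → F) := QuadraticMap.polarBilin Q
  have hB : ∀ x y, B x y = polar ⇑Q x y := fun _ _ => rfl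
  have hsym : ∀ x y, B x y = B y x := fun x y => by rw [hB, hB, polar_comm]
  have hisom : ∀ x v w, B (toE x v) (toE x w) = B v w := fun x v w => Orth.polar_app x v w
  -- an irreducible piece of the element of order `r`
  set y := s ^ k with hy
  set M : Matrix ι ι F := ((y : Matrix.GeneralLinearGroup ι F) : Matrix ι ι F) with hM
  have hM1 : M ^ (r * 1) = 1 := by
    have h : y ^ r = 1 := by rw [hy, ← pow_mul, mul_comm, ← hk, ← hso, pow_orderOf_eq_one]
    rw [mul_one, hM, ← Units.val_pow_eq_pow_val, ← SubmonoidClass.coe_pow, h]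
    rfl
  have hM2 : M ^ 1 ≠ 1 := fun h => by
    have h' : y = 1 := Subtype.ext (Units.ext (by rw [pow_one] at h; exact h))
    have := Nat.le_of_dvd (Nat.pos_of_ne_zero fun h0 => by simp [h0] at hk)
      (hso ▸ orderOf_dvd_of_pow_eq_one (hy ▸ h'))
    rw [hk] at this
    have hk0 : 0 < k := Nat.pos_of_ne_zero fun h0 => by simp [h0] at hk
    have := (Fact.out : r.Prime).two_le
    nlinarith
  obtain ⟨f₀, hf₀, hf₀M, hf₀X, hf₀1⟩ := PrimeGraphLinear.exists_factor M hrF hM1 hM2
  set f := f₀ * C f₀.leadingCoeff⁻¹ with hfdef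
  have hf : f.Monic := monic_mul_leadingCoeff_inv hf₀.ne_zero
  have hass : Associated f₀ f := ⟨(isUnit_C.2 (Ne.isUnit (inv_ne_zero (leadingCoeff_ne_zero.2 hf₀.ne_zero)))).unit, rfl⟩
  have hfi : Irreducible f := hass.irreducible hf₀
  have hfM : f ∣ minpoly F M := hass.symm.dvd.trans hf₀M
  have hfX : f ∣ X ^ (r * 1) - 1 := hass.symm.dvd.trans hf₀X
  have hf1 : ¬ f ∣ X ^ 1 - 1 := fun h => hf₀1 (hass.dvd.trans h)
  have hdeg : f.natDegree = 2 * m := by
    have h1 := PrimeGraphLinear.orderOf_dvd_natDegree hfi (Fact.out : r.Prime) hfX hf1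
    rw [hF, hr] at h1
    have h2' := PrimeGraphLinear.natDegree_le_card M hfM
    obtain ⟨c, hc⟩ := h1
    have := hfi.natDegree_pos
    rcases Nat.lt_or_ge c 2 with hc2 | hc2
    · have : c = 1 := by
        rcases Nat.eq_zero_or_pos c with h0 | h0
        · rw [h0, mul_zero] at hc; omega
        · omega
      rw [hc, this, mul_one]
    · have : 2 * m * 2 ≤ 2 * m * c := Nat.mul_le_mul_left _ hc2
      omega
  obtain ⟨w₀, hw₀0, hw₀M⟩ : ∃ w, w ≠ 0 ∧ (aeval M f).mulVec w = 0 := by
    rw [Matrix.exists_mulVec_eq_zero_iff]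
    by_contra hdet
    obtain ⟨c, hc⟩ := hfM
    have hc0 : c ≠ 0 := fun h0 => minpoly.ne_zero (IsIntegral.of_finite F M) (by rw [hc, h0, mul_zero])
    have h1 := minpoly.aeval F M
    rw [hc, map_mul] at h1
    have h3 : aeval M c = 0 :=
      (((Matrix.isUnit_iff_isUnit_det _).2 (Ne.isUnit hdet)).mul_right_eq_zero).1 h1
    have h4 := minpoly.degree_le_of_ne_zero F M hc0 h3
    rw [hc, degree_mul, degree_eq_natDegree hf.ne_zero, degree_eq_natDegree hc0, hdeg] at h4
    have h5 : 2 * m + c.natDegree ≤ c.natDegree := by exact_mod_cast h4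
    omega
  haveI : Fact (Irreducible f) := ⟨hfi⟩
  set Y : Module.End F (ι → F) := toE y with hY
  have hfY : aeval Y f w₀ = 0 := by
    have h1 : aeval Y f = (Matrix.toLinAlgEquiv' (R := F) (n := ι)) (aeval M f) :=
      aeval_algHom_apply (AlgEquiv.toAlgHom (Matrix.toLinAlgEquiv' (R := F) (n := ι))) M f
    rw [h1]
    exact hw₀M
  let Φ : AdjoinRoot f →ₗ[F] (ι → F) := cyc Y hf w₀
  have hΦinj : Function.Injective Φ := cyc_injective hf hfY hw₀0
  let pb := AdjoinRoot.powerBasis hf.ne_zero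
  haveI : Module.Finite F (AdjoinRoot f) := pb.finite
  haveI : Finite (AdjoinRoot f) := Module.finite_of_finite F
  letI : Fintype (AdjoinRoot f) := Fintype.ofFinite _
  have hfinL : finrank F (AdjoinRoot f) = 2 * m := by
    rw [pb.finrank, AdjoinRoot.powerBasis_dim hf.ne_zero, hdeg]
  have hcardL : Fintype.card (AdjoinRoot f) = q ^ (2 * m) := by
    rw [Module.card_eq_pow_finrank (K := F), hF, hfinL]
  haveI : CharP (AdjoinRoot f) p := charP_of_injective_algebraMap (algebraMap F _).injective p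
  let τ : AdjoinRoot f →ₐ[F] AdjoinRoot f := FiniteField.frobeniusAlgHom F (AdjoinRoot f) ^ m
  have hτ : ∀ x, τ x = x ^ q ^ m := fun x => frob_pow_apply hF x m
  have hττ : ∀ x, τ (τ x) = x := fun x => by
    rw [hτ, hτ, ← pow_mul, ← pow_add, ← two_mul, ← hcardL, FiniteField.pow_card]
  set α := AdjoinRoot.root f with hα
  have hαr : α ^ r = 1 := by
    have h := (AdjoinRoot.mk_eq_zero).2 hfX
    rw [map_sub, map_pow, map_one, AdjoinRoot.mk_X, mul_one, sub_eq_zero] at h
    exact h
  have hατ : τ α * α = 1 := by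
    obtain ⟨c, hc⟩ := hrN
    rw [hτ, ← pow_succ, ← hN, hc, pow_mul, hαr, one_pow]
  have hYα : ∀ c, Y (Φ c) = Φ (α * c) := fun c => by
    rw [hα, ← AdjoinRoot.mk_X]
    show _ = cyc Y hf w₀ _
    rw [cyc_mk_mul hf hfY, aeval_X]
  have hsmul : ∀ (x : F) c, Φ (algebraMap F (AdjoinRoot f) x * c) = x • Φ c := fun x c => by
    rw [← Algebra.smul_def, map_smul]
  have hadj : ∀ x a b, B (Φ (x * a)) (Φ b) = B (Φ a) (Φ (τ x * b)) := by
    intro x
    obtain ⟨P, rfl⟩ := AdjoinRoot.mk_surjective x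
    induction P using Polynomial.induction_on with
    | C c =>
      intro a b
      rw [AdjoinRoot.mk_C, ← AdjoinRoot.algebraMap_eq, AlgHom.commutes, hsmul, hsmul, map_smul, map_smul,
        LinearMap.smul_apply]
    | add P R hP hR =>
      intro a b
      simp only [map_add, add_mul, LinearMap.add_apply, hP, hR]
    | monomial j c ih =>
      intro a b
      rw [pow_succ, ← mul_assoc, map_mul (AdjoinRoot.mk f), AdjoinRoot.mk_X, ← hα, mul_right_comm _ α, mul_comm _ α, ← hYα,
        map_mul τ]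
      conv_lhs => rw [show b = α * (τ α * b) by rw [← mul_assoc, mul_comm α, hατ, one_mul], ← hYα, hisom, ih]
      rw [mul_assoc]
  let Λ : AdjoinRoot f →ₗ[F] F := (B (Φ 1)).comp Φ
  have hΛ : ∀ a b, B (Φ a) (Φ b) = Λ (τ a * b) := fun a b => by
    have h := hadj a 1 b
    rwa [mul_one] at h
  obtain ⟨k₀, hk₀, hΛk₀⟩ : ∃ k₀, k₀ ^ q ^ m = k₀ ∧ Λ k₀ ≠ 0 := by
    by_contra hcon
    push Not at hcon
    have hfix : ∀ a, τ a * a ∈ {x : AdjoinRoot f | x ^ q ^ m = x} := fun a => by
      show (τ a * a) ^ q ^ m = τ a * a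
      rw [← hτ, map_mul, hττ, mul_comm]
    have hself : ∀ a, B (Φ a) (Φ a) = 0 := fun a => by rw [hΛ]; exact hcon _ (hfix a)
    have hiso : ∀ a b, B (Φ a) (Φ b) = 0 := fun a b => by
      have h := hself (a + b)
      simp only [map_add, LinearMap.add_apply, hself, hsym (Φ b) (Φ a)] at h
      exact (mul_eq_zero.1 (by linear_combination h : (2 : F) * B (Φ a) (Φ b) = 0)).resolve_left h2
    have hle : LinearMap.range Φ ≤ B.orthogonal (LinearMap.range Φ) := by
      rintro _ ⟨a, rfl⟩ _ ⟨b, rfl⟩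
      exact hiso b a
    have h1 := Submodule.finrank_mono hle
    rw [LinearMap.BilinForm.finrank_orthogonal hQ, LinearMap.finrank_range_of_inj hΦinj, hfinL,
      Module.finrank_fintype_fun_eq_card, hι] at h1
    omega
  have hΛnd : ∀ a, (∀ b, Λ (a * b) = 0) → a = 0 := fun a ha => by
    by_contra hne
    have h := ha (a⁻¹ * k₀)
    rw [← mul_assoc, mul_inv_cancel₀ hne, one_mul] at h
    exact hΛk₀ h
  set R := LinearMap.range Φ with hR
  set T := B.orthogonal R with hT
  have hrefl : B.IsRefl := fun x z h => by rwa [hsym]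
  have hcompl : IsCompl R T := by
    refine LinearMap.BilinForm.isCompl_orthogonal_of_restrict_nondegenerate hrefl ?_
    have key : ∀ x : R, (∀ z : R, B x.1 z.1 = 0) → x = 0 := by
      rintro ⟨_, a, rfl⟩ h
      have h' : τ a = 0 := hΛnd _ fun b => by rw [← hΛ]; exact h ⟨_, b, rfl⟩
      refine Subtype.ext ?_
      show Φ a = 0
      rw [← hττ a, h', map_zero, map_zero]
    exact ⟨fun x h => key x h, fun x h => key x fun z => by rw [hsym]; exact h z⟩
  have hfinR : finrank F R = 2 * m := by rw [hR, LinearMap.finrank_range_of_inj hΦinj, hfinL]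
  have hfinT : finrank F T = 3 := by
    have h := Submodule.finrank_add_eq_of_isCompl hcompl
    rw [hfinR, Module.finrank_fintype_fun_eq_card, hι] at h
    omega
  have hperp : ∀ c, ∀ t ∈ T, B (Φ c) t = 0 := fun c t ht => ht _ ⟨c, rfl⟩
  have hdec : ∀ v, ∃ c, ∃ t ∈ T, v = Φ c + t := fun v => by
    obtain ⟨x, hx, t, ht, rfl⟩ := Submodule.mem_sup.1
      (show v ∈ R ⊔ T by rw [hcompl.sup_eq_top]; exact Submodule.mem_top)
    obtain ⟨c, rfl⟩ := hx
    exact ⟨c, t, ht, rfl⟩
  have hinvT : ∀ x : ↥(isometryGroup F ⇑Q), (∀ c, ∃ c', toE x (Φ c') = Φ c) → ∀ t ∈ T, toE x t ∈ T :=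
    fun x hx t ht => by
      rintro _ ⟨c, rfl⟩
      obtain ⟨c', hc'⟩ := hx c
      show B (Φ c) (toE x t) = 0
      rw [← hc', hisom]
      exact hperp c' t ht
  have hα0 : α ≠ 0 := right_ne_zero_of_mul_eq_one hατ
  have hYT : ∀ t ∈ T, Y t ∈ T := hinvT y fun c =>
    ⟨α⁻¹ * c, by rw [hYα, ← mul_assoc, mul_inv_cancel₀ hα0, one_mul]⟩
  have hker : ∀ v, aeval Y f v = 0 → v ∈ R := fun v hv => by
    obtain ⟨c, t, ht, rfl⟩ := hdec v
    have hc : aeval Y f (Φ c) = 0 := by
      show aeval Y f (cyc Y hf w₀ c) = 0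
      rw [← cyc_mk_mul hf hfY, AdjoinRoot.mk_self, zero_mul, map_zero]
    rw [map_add, hc, zero_add] at hv
    by_cases ht0 : t = 0
    · rw [ht0, add_zero]; exact ⟨c, rfl⟩
    · exfalso
      have h1 : LinearMap.range (cyc Y hf t) ≤ T := by
        rintro _ ⟨d, rfl⟩
        exact cyc_mem hf hv hYT ht d
      have h3 := Submodule.finrank_mono h1
      rw [LinearMap.finrank_range_of_inj (cyc_injective hf hv ht0), hfinL, hfinT] at h3
      omega
  have hcomm : ∀ x, Commute x y → ∃ a, (∀ c, toE x (Φ c) = Φ (a * c)) ∧ τ a * a = 1 ∧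
      ∀ t ∈ T, toE x t ∈ T := by
    intro x hx
    have hxY : ∀ P : F[X], ∀ v, toE x (aeval Y P v) = aeval Y P (toE x v) := fun P v => by
      induction P using Polynomial.induction_on generalizing v with
      | C c => simp
      | add a b ha hb => simp [ha, hb]
      | monomial j c ih =>
        rw [pow_succ, ← mul_assoc, map_mul, Module.End.mul_apply, Module.End.mul_apply, ih, aeval_X]
        congr 1
        exact LinearMap.congr_fun (hx.map toE).eq v
    obtain ⟨a, ha⟩ := hker (toE x w₀) (by rw [← hxY, hfY, map_zero])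
    have hxc : ∀ c, toE x (Φ c) = Φ (a * c) := fun c => by
      obtain ⟨P, rfl⟩ := AdjoinRoot.mk_surjective c
      rw [mul_comm]
      show toE x (cyc Y hf w₀ _) = cyc Y hf w₀ _
      rw [cyc_mk hf hfY, cyc_mk_mul hf hfY, hxY, ← ha]
    have ha0 : a ≠ 0 := fun h => by
      have h' := hxc 1
      rw [h, zero_mul, map_zero] at h'
      have h3 : Φ 1 = 0 := Orth.app_injective x (h'.trans (Orth.app_zero x).symm)
      exact one_ne_zero (hΦinj (h3.trans (map_zero Φ).symm))
    refine ⟨a, hxc, sub_eq_zero.1 (hΛnd _ fun b => ?_),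
      hinvT x fun c => ⟨a⁻¹ * c, by rw [hxc, ← mul_assoc, mul_inv_cancel₀ ha0, one_mul]⟩⟩
    have h := hisom x (Φ 1) (Φ b)
    rw [hxc, hxc, mul_one, hΛ, hΛ, map_one, one_mul] at h
    rw [sub_mul, one_mul, map_sub, mul_assoc, h, sub_self]
  obtain ⟨a, hsa, haτ, hsT⟩ := hcomm s (by rw [hy]; exact Commute.self_pow s k)
  obtain ⟨b, hub, -, huT⟩ := hcomm u (by rw [hy, hs, hu]; exact (Commute.pow_pow_self g N p).pow_right k)
  have hpowR : ∀ (x : ↥(isometryGroup F ⇑Q)) a, (∀ c, toE x (Φ c) = Φ (a * c)) →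
      ∀ (i : ℕ) c, toE (x ^ i) (Φ c) = Φ (a ^ i * c) := fun x a hx i => by
    induction i with
    | zero => intro c; simp
    | succ i ih => intro c; rw [pow_succ', map_mul, Module.End.mul_apply, ih, hx, pow_succ', mul_assoc]
  have hb1 : b = 1 := by
    have h := hpowR u b hub p 1
    rw [← huo, pow_orderOf_eq_one, map_one, Module.End.one_apply, mul_one, huo] at h
    have hbp : b ^ p = 1 := (hΦinj h).symm
    refine sub_eq_zero.1 (pow_eq_zero_iff (Fact.out : p.Prime).ne_zero |>.1 ?_)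
    rw [sub_pow_char, hbp, one_pow, sub_self]
  -- the three-dimensional part
  let BT : LinearMap.BilinForm F T := B.restrict T
  have hBT : BT.Nondegenerate := by
    have key : ∀ t : T, (∀ z : T, B t.1 z.1 = 0) → t = 0 := fun t h => by
      refine Subtype.ext (hQ.1 _ fun v => ?_)
      obtain ⟨c, t', ht', rfl⟩ := hdec v
      show B t.1 (Φ c + t') = 0
      rw [map_add, hsym, hperp c t.1 t.2, zero_add]
      exact h ⟨t', ht'⟩
    exact ⟨fun x h => key x h, fun x h => key x fun z => by rw [hsym]; exact h z⟩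
  let ST : Module.End F T := (toE s).restrict hsT
  let UT : Module.End F T := (toE u).restrict huT
  have hres : ∀ (X : Module.End F (ι → F)) (hX : ∀ t ∈ T, X t ∈ T) (i : ℕ) (t : T),
      (((X.restrict hX) ^ i) t : ι → F) = (X ^ i) t.1 := fun X hX i t => by
    induction i with
    | zero => rfl
    | succ i ih => rw [pow_succ', pow_succ', Module.End.mul_apply, Module.End.mul_apply, ← ih]; rfl
  have hcases : ST = 1 ∨ ST = -1 := by
    refine eq_one_or_neg_one_of_commute (p := p) h2 hfinT BT hBT (fun x z => hsym x.1 z.1) ST UT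
      (fun x z => hisom s x.1 z.1) (fun x z => hisom u x.1 z.1) ?_ ?_ ?_ hNF ?_
    · refine LinearMap.ext fun t => Subtype.ext ?_
      exact LinearMap.congr_fun ((Commute.pow_pow_self g p N).map toE).eq t.1
    · intro h
      have hu1 : u = 1 := toE_inj _ _ (LinearMap.ext fun v => by
        obtain ⟨c, t, ht, rfl⟩ := hdec v
        have h3 : toE u t = t := congrArg Subtype.val (LinearMap.congr_fun h ⟨t, ht⟩)
        rw [map_add, hub, hb1, one_mul, h3, map_one]
        rfl)
      rw [hu1, orderOf_one] at huo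
      exact (Fact.out : p.Prime).one_lt.ne huo
    · refine LinearMap.ext fun t => Subtype.ext ?_
      rw [hres, ← map_pow, ← huo, pow_orderOf_eq_one, map_one]; rfl
    · refine LinearMap.ext fun t => Subtype.ext ?_
      rw [hres, ← map_pow, ← hso, pow_orderOf_eq_one, map_one]; rfl
  have haN : a ^ N = 1 := by rw [hN, pow_succ, ← hτ, haτ]
  rcases hcases with hST | hST
  swap
  · -- then the determinant would be `-1`
    let E : (AdjoinRoot f × T) ≃ₗ[F] (ι → F) :=
      ((LinearEquiv.ofInjective Φ hΦinj).prodCongr (LinearEquiv.refl F T)).trans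
        (Submodule.prodEquivOfIsCompl R T hcompl)
    have hconj : (E : (AdjoinRoot f × T) →ₗ[F] (ι → F)) ∘ₗ
        LinearMap.prodMap (Algebra.lmul F (AdjoinRoot f) a) ST ∘ₗ (E.symm : (ι → F) →ₗ[F] _) = toE s := by
      refine LinearMap.ext fun v => ?_
      obtain ⟨⟨c, t⟩, rfl⟩ := E.surjective v
      show E (LinearMap.prodMap (Algebra.lmul F (AdjoinRoot f) a) ST (E.symm (E (c, t)))) = _
      rw [E.symm_apply_apply]
      show Φ (a * c) + toE s t.1 = toE s (Φ c + t.1)
      rw [map_add (toE s), hsa]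
    have hdet : ((s : Matrix.GeneralLinearGroup ι F) : Matrix ι ι F).det = -1 := by
      rw [← LinearMap.det_toLin']
      show LinearMap.det (toE s) = -1
      rw [← hconj, LinearMap.det_conj, LinearMap.det_prodMap, ← Algebra.norm_apply, hST,
        show (-1 : Module.End F T) = (-1 : F) • (LinearMap.id : T →ₗ[F] T) from LinearMap.ext fun x => by simp, LinearMap.det_smul,
        LinearMap.det_id, hfinT]
      have hnorm : Algebra.norm F a = 1 := (algebraMap F (AdjoinRoot f)).injective (by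
        rw [FiniteField.algebraMap_norm_eq_pow_sum, hfinL, Nat.card_eq_fintype_card, hF, map_one, two_mul,
          Finset.sum_range_add, show ∑ i ∈ Finset.range m, q ^ (m + i) = q ^ m * ∑ i ∈ Finset.range m, q ^ i by
            rw [Finset.mul_sum]; exact Finset.sum_congr rfl fun i _ => pow_add q m i,
          show ∑ i ∈ Finset.range m, q ^ i + q ^ m * ∑ i ∈ Finset.range m, q ^ i =
            N * ∑ i ∈ Finset.range m, q ^ i by rw [hN]; ring,
          pow_mul, haN, one_pow])
      rw [hnorm]; norm_num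
    have : Orth.detSign Q h2 hQ s = -1 := by
      show (if _ then (1 : ℤˣ) else -1) = -1
      rw [if_neg]
      rw [hdet]
      exact fun h => h2 (by linear_combination -h)
    rw [hds] at this
    exact absurd this (by decide)
  -- so `s` is trivial there; count the cycles on the unit quadric
  have hsfix : ∀ t ∈ T, toE s t = t := fun t ht => congrArg Subtype.val (LinearMap.congr_fun hST ⟨t, ht⟩)
  have hsi : ∀ (i : ℕ) c, ∀ t ∈ T, toE (s ^ i) (Φ c + t) = Φ (a ^ i * c) + t := fun i c t ht => by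
    rw [map_add, hpowR s a hsa]
    congr 1
    induction i with
    | zero => simp
    | succ i ih => rw [pow_succ', map_mul, Module.End.mul_apply, ih, hsfix t ht]
  have hai : ∀ i : ℕ, a ^ i = 1 → N ∣ i := fun i hi => by
    rw [← hso]
    refine orderOf_dvd_of_pow_eq_one (toE_inj _ _ (LinearMap.ext fun v => ?_))
    obtain ⟨c, t, ht, rfl⟩ := hdec v
    rw [hsi i c t ht, hi, one_mul, map_one]
    rfl
  let ℓ : AdjoinRoot f →ₗ[F] F := (2 : F)⁻¹ • Λ
  have hℓ : ∀ c, ∀ t ∈ T, Q (Φ c + t) = ℓ (c ^ (q ^ m + 1)) + Q t := fun c t ht => by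
    have h1 : Q (Φ c) = ℓ (c ^ (q ^ m + 1)) := by
      show _ = (2 : F)⁻¹ * Λ (c ^ (q ^ m + 1))
      rw [pow_succ, ← hτ, ← hΛ, hB, QuadraticMap.polar_self, two_nsmul]
      field_simp
      ring
    have h3 := hperp c t ht
    rw [hB, QuadraticMap.polar] at h3
    rw [← h1]
    linear_combination h3
  have hdec1 : ∀ c c', ∀ t ∈ T, ∀ t' ∈ T, Φ c + t = Φ c' + t' → c = c' ∧ t = t' := fun c c' t ht t' ht' h => by
    have h1 : Φ (c - c') = t' - t := by rw [map_sub, sub_eq_sub_iff_add_eq_add, h, add_comm]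
    have h3 : Φ (c - c') ∈ R ⊓ T := ⟨⟨_, rfl⟩, h1 ▸ T.sub_mem ht' ht⟩
    rw [hcompl.inf_eq_bot, Submodule.mem_bot] at h3
    exact ⟨sub_eq_zero.1 (hΦinj (h3.trans (map_zero Φ).symm)), (sub_eq_zero.1 (h1.symm.trans h3)).symm⟩
  let σ := Orth.unitPerm Q s
  haveI : Fintype {x : ι → F // Q x = 1} := Fintype.ofFinite _
  have hσ : ∀ (i : ℕ) (x : {x : ι → F // Q x = 1}), ((σ ^ i) x : ι → F) = toE (s ^ i) x.1 := fun i x => by
    show (((Orth.unitPerm Q s) ^ i) x : ι → F) = _
    rw [← map_pow]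
    rfl
  have hmv : ∀ x : {x : ι → F // Q x = 1}, ∀ c, ∀ t ∈ T, x.1 = Φ c + t → (σ x ≠ x ↔ c ≠ 0) :=
    fun x c t ht hx => by
      have h1 : (σ x : ι → F) = Φ (a * c) + t := by
        have := hσ 1 x
        rw [pow_one] at this
        rw [this, hx, hsi 1 c t ht, pow_one]
      constructor
      · intro h h0
        exact h (Subtype.ext (by rw [h1, hx, h0, mul_zero]))
      · intro h h0
        have h3 := congrArg Subtype.val h0
        rw [h1, hx] at h3
        have h4 := (hdec1 _ _ t ht t ht h3).1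
        have ha1 : a = 1 := mul_right_cancel₀ h (h4.trans (one_mul c).symm)
        have := Nat.le_of_dvd one_pos (hai 1 (by rw [ha1, one_pow]))
        have : 2 ≤ N := by rw [hN]; have := Nat.one_le_pow m q (by omega); omega
        omega
  choose j hj hjodd using fun c : F => level_card (L := AdjoinRoot f) hF hodd hm hfinL ℓ
    ⟨k₀, hk₀, by show (2 : F)⁻¹ * Λ k₀ ≠ 0; exact mul_ne_zero (inv_ne_zero h2) hΛk₀⟩ c
  haveI : Fintype T := Fintype.ofFinite _
  have hcount : Fintype.card {x // σ x ≠ x} = N * ∑ t : T, j (1 - Q t.1) := by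
    let Lev := fun t : T => {z : AdjoinRoot f // z ≠ 0 ∧ ℓ (z ^ (q ^ m + 1)) = 1 - Q t.1}
    let fwd : (Σ t : T, Lev t) → {x // σ x ≠ x} := fun z =>
      ⟨⟨Φ z.2.1 + z.1.1, by rw [hℓ _ _ z.1.2, z.2.2.2, sub_add_cancel]⟩, (hmv _ _ _ z.1.2 rfl).2 z.2.2.1⟩
    have hbij : Function.Bijective fwd := by
      constructor
      · rintro ⟨t, z⟩ ⟨t', z'⟩ h
        obtain ⟨h1, h3⟩ := hdec1 _ _ _ t.2 _ t'.2 (congrArg (fun x : {x // σ x ≠ x} => x.1.1) h)
        obtain rfl : t = t' := Subtype.ext h3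
        obtain rfl : z = z' := Subtype.ext h1
        rfl
      · rintro ⟨⟨x, hx⟩, hmoved⟩
        obtain ⟨c, t, ht, rfl⟩ := hdec x
        refine ⟨⟨⟨t, ht⟩, ⟨c, (hmv _ c t ht rfl).1 hmoved, ?_⟩⟩, rfl⟩
        rw [hℓ c t ht] at hx
        rw [eq_sub_iff_add_eq]
        exact hx
    rw [← Nat.card_eq_fintype_card, ← Nat.card_eq_of_bijective fwd hbij, Nat.card_sigma, Finset.mul_sum]
    exact Finset.sum_congr rfl fun t _ => hj _
  have hσN : σ ^ N = 1 := by
    show (Orth.unitPerm Q s) ^ N = 1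
    rw [← map_pow, ← hso, pow_orderOf_eq_one, map_one]
  have hper : ∀ x, σ x ≠ x → ∀ i : ℕ, (σ ^ i) x = x → N ∣ i := fun x hx i hi => by
    obtain ⟨c, t, ht, hxe⟩ := hdec x.1
    have hc0 : c ≠ 0 := (hmv x c t ht hxe).1 hx
    have h := congrArg Subtype.val hi
    rw [hσ, hxe, hsi i c t ht] at h
    exact hai i (mul_right_cancel₀ hc0 ((hdec1 _ _ t ht t ht h).1.trans (one_mul c).symm))
  have hsgn := sign_of_uniform σ (by omega) (hN ▸ (hodd.pow.add_one)) hσN hper hcount
  have hsp : Orth.spinor Q s = Equiv.Perm.sign σ := by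
    simp only [Orth.spinor, MonoidHom.comp_apply]
    convert rfl
  have hsum : Odd (∑ t : T, j (1 - Q t.1)) := by
    rw [Finset.odd_sum_iff_odd_card_odd]
    have e : (Finset.univ.filter fun t : T => Odd (j (1 - Q t.1))) =
        (Finset.univ.filter fun t : T => ¬ Q t.1 = 1) :=
      Finset.filter_congr fun t _ => by rw [hjodd, sub_ne_zero, ne_comm]
    rw [e]
    have hTodd : Odd (Fintype.card T) := by
      rw [Module.card_eq_pow_finrank (K := F), hF]
      exact hodd.pow
    have heven : Even (Finset.univ.filter fun t : T => Q t.1 = 1).card := by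
      rw [← ZMod.natCast_eq_zero_iff_even, Finset.card_eq_sum_ones, Nat.cast_sum]
      refine Finset.sum_involution (fun t _ => -t) (fun _ _ => by decide) (fun t ht _ h => ?_)
        (fun t ht => ?_) (fun t _ => neg_neg t)
      · have ht1 : Q t.1 = 1 := (Finset.mem_filter.1 ht).2
        have h0 : (2 : F) • t.1 = 0 := by
          rw [two_smul]
          conv_lhs => arg 1; rw [← congrArg Subtype.val h]
          exact neg_add_cancel _
        rw [(smul_eq_zero.1 h0).resolve_left h2, QuadraticMap.map_zero] at ht1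
        exact zero_ne_one ht1
      · have ht1 : Q t.1 = 1 := (Finset.mem_filter.1 ht).2
        exact Finset.mem_filter.2 ⟨Finset.mem_univ _, by
          show Q (-t.1) = 1
          rw [QuadraticMap.map_neg, ht1]⟩
    rw [← Finset.card_univ, ← Finset.card_filter_add_card_filter_not (fun t : T => Q t.1 = 1)] at hTodd
    exact (Nat.odd_add'.1 hTodd).2 heven
  rw [hsp, hsgn, hsum.neg_one_pow] at hss
  exact absurd hss (by decide)

end Cfsg.Agent.Lib.OddSpectrum
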